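import Mathlib
import Cfsg.Agent.Lib.Helper11.Dickson.NPS3
import Cfsg.Agent.Lib.Helper33.SecMaster
import Cfsg.Agent.S0659
import Cfsg.Agent.S0653

set_option autoImplicit false
set_option linter.unusedSectionVars false
set_option linter.style.haveILetI false

/-! The local `SL₂(p)`-free hypothesis and its inheritance. -/

namespace Cfsg.Agent.Lib.Helper11.LocFusion

open Cfsg Subgroup Cfsg.Agent.Lib.Helper11.Dickson Cfsg.Agent.Lib.Helper33
  Cfsg.Agent.Lib.Helper35.PStab Cfsg.Agent.Lib.Helper35.QuadCore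
open scoped MatrixGroups

universe u

/-- the local hypothesis: normalizers of the subgroups between `Z(P)` and `P` do not involve
`SL₂(p)` -/
def LH (p : ℕ) {X : Type u} [Group X] (P : Subgroup X) : Prop :=
  ∀ R : Subgroup X, P ⊓ centralizer (P : Set X) ≤ R → R ≤ P →
    NoSL2 p ↥(normalizer (R : Set X))

theorem LH.subgroup {p : ℕ} {X : Type u} [Group X] {P : Subgroup X} (h : LH p P)
    (H : Subgroup X) (P' : Subgroup ↥H) (hle : P'.map H.subtype ≤ P)
    (hZ : P ⊓ centralizer (P : Set X) ≤ P'.map H.subtype) : LH p P' := by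
  intro R' hZR' hR'P'
  have h1 : P ⊓ centralizer (P : Set X) ≤ R'.map H.subtype := by
    intro z hz
    obtain ⟨z', hz'P', rfl⟩ := hZ hz
    refine ⟨z', hZR' (Subgroup.mem_inf.mpr ⟨hz'P', ?_⟩), rfl⟩
    rw [mem_centralizer_iff]
    intro y hy
    apply Subtype.ext
    exact mem_centralizer_iff.mp hz.2 (y : X) (hle ⟨y, hy, rfl⟩)
  have h2 : R'.map H.subtype ≤ P := (map_mono hR'P').trans hle
  have h3 := h _ h1 h2
  intro hinv
  apply h3
  have hn : ∀ x : ↥(normalizer (R' : Set ↥H)),
      ((x : ↥H) : X) ∈ normalizer ((R'.map H.subtype : Subgroup X) : Set X) := by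
    intro x
    exact Subgroup.le_normalizer_map H.subtype ⟨x, x.2, rfl⟩
  let ι : ↥(normalizer (R' : Set ↥H)) →*
      ↥(normalizer ((R'.map H.subtype : Subgroup X) : Set X)) :=
    (H.subtype.comp (Subgroup.subtype _)).codRestrict _ hn
  have hι : Function.Injective ι := by
    intro x y hxy
    apply Subtype.ext
    apply Subtype.ext
    have := congrArg Subtype.val hxy
    exact this
  exact Cfsg.Agent.Lib.Helper51.involves_of_injective ι hι hinv

theorem LH.quotient {p : ℕ} {X : Type u} [Group X] {P : Subgroup X} (h : LH p P)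
    (Q : Subgroup X) [Q.Normal] (hQP : Q ≤ P) : LH p (P.map (QuotientGroup.mk' Q)) := by
  intro Rb hZ hRb
  obtain ⟨R, hR⟩ : ∃ R : Subgroup X, R = Rb.comap (QuotientGroup.mk' Q) := ⟨_, rfl⟩
  have h1 : P ⊓ centralizer (P : Set X) ≤ R := by
    intro z hz
    rw [hR, mem_comap]
    apply hZ
    refine Subgroup.mem_inf.mpr ⟨⟨z, hz.1, rfl⟩, ?_⟩
    rw [mem_centralizer_iff]
    rintro _ ⟨y, hy, rfl⟩
    rw [← map_mul, ← map_mul, mem_centralizer_iff.mp hz.2 y hy]
  have h2 : R ≤ P := by
    intro r hr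
    rw [hR, mem_comap] at hr
    obtain ⟨y, hy, hyr⟩ := hRb hr
    have h3 : y⁻¹ * r ∈ Q := QuotientGroup.eq.mp hyr
    have := P.mul_mem hy (hQP h3)
    simpa using this
  have h3 := h R h1 h2
  intro hinv
  apply h3
  have hRb' : Rb = R.map (QuotientGroup.mk' Q) := by
    rw [hR, map_comap_eq_self_of_surjective (QuotientGroup.mk'_surjective Q)]
  have hn : ∀ x : ↥(normalizer (R : Set X)),
      QuotientGroup.mk' Q (x : X) ∈ normalizer (Rb : Set (X ⧸ Q)) := by
    intro x
    rw [hRb']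
    exact Subgroup.le_normalizer_map _ ⟨x, x.2, rfl⟩
  let ρ : ↥(normalizer (R : Set X)) →* ↥(normalizer (Rb : Set (X ⧸ Q))) :=
    ((QuotientGroup.mk' Q).comp (Subgroup.subtype _)).codRestrict _ hn
  have hρ : Function.Surjective ρ := by
    rintro ⟨nb, hnb⟩
    obtain ⟨n, rfl⟩ := QuotientGroup.mk'_surjective Q nb
    refine ⟨⟨n, ?_⟩, Subtype.ext rfl⟩
    rw [hR]
    exact Subgroup.le_normalizer_comap _ hnb
  exact Cfsg.Agent.Lib.Helper51.involves_of_surjective ρ hρ hinv

/-- groups not involving `SL₂(p)` act `p`-stably on their normal `p`-subgroups -/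
theorem isPStableOn_of_noSL2 {p : ℕ} [Fact p.Prime] (hp2 : p ≠ 2)
    {X : Type u} [Group X] [Finite X] (hX : NoSL2 p X) (P : Subgroup X) [P.Normal]
    (hPp : IsPGroup p P) : IsPStableOn p P := by
  intro a hquad
  have hq := quad_of_commutator P (Subgroup.zpowers a) hquad a (Subgroup.mem_zpowers a)
  exact (stabClass_noSL2 hp2).mem_pCore_quotient hX P hPp a hq

end Cfsg.Agent.Lib.Helper11.LocFusion
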