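import Mathlib
import Cfsg.Agent.Lib.Helper11.LocFusion.LH

set_option autoImplicit false
set_option linter.unusedSectionVars false
set_option linter.style.haveILetI false

/-! `Z(J)` controls strong fusion under the local `SL₂(p)`-free hypothesis. -/

namespace Cfsg.Agent.Lib.Helper11.LocFusion

open Cfsg Subgroup Cfsg.Agent.Lib.Helper11.Dickson Cfsg.Agent.Lib.Helper33
open scoped MatrixGroups

universe u

/-- the singleton family of the `Z(J)` functor -/
def famA : Set (∀ (Q : Type u) [Group Q], Subgroup Q) := {Cfsg.Agent.S0659.WA}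

theorem famA_char (p : ℕ) [Fact p.Prime] : ∀ W ∈ famA.{u}, IsCharPFunctor.{u} p W := by
  intro W hW
  unfold famA at hW
  rw [Set.mem_singleton_iff] at hW
  rw [hW]
  exact Cfsg.Agent.S0659.isCharPFunctor_WA p

/-- control in groups not involving `SL₂(p)` -/
theorem ctl_of_noSL2 {p : ℕ} [Fact p.Prime] (hp : p ≠ 2) {X : Type u} [Group X] [Finite X]
    (hX : NoSL2 p X) : FamilyControlsStrongFusionIn p (indFam famA.{u} X) ⊤ := by
  have h𝓦 := famA_char.{u} p
  have hloc' : ∀ (X' : Type u) [Group X'] [Finite X'], Sec X X' →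
      centralizer ((pCore p X' : Subgroup X') : Set X') ≤ pCore p X' →
      FamilyControlsStrongFusionIn p (indFam famA.{u} X') ⊤ := by
    intro X' _ _ hX' hc
    have hfree' : NoSL2 p X' := by
      intro hinv
      obtain ⟨K', R', hR', ⟨e⟩⟩ := hX'
      apply hX
      have h2 : Involves SL(2, ZMod p) (↥K' ⧸ R'.subgroupOf K') :=
        Cfsg.Agent.Lib.Helper51.involves_of_injective e.toMonoidHom e.injective hinv
      exact Cfsg.Agent.Lib.Helper51.involves_of_injective K'.subtype K'.subtype_injective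
        (Cfsg.Agent.Lib.Helper51.involves_of_surjective (QuotientGroup.mk' (R'.subgroupOf K'))
          (QuotientGroup.mk'_surjective _) h2)
    obtain ⟨T'⟩ : Nonempty (Sylow p X') := inferInstance
    apply fcsf_of_ctlAt T'.isPGroup' T'.not_dvd_index
    intro A g _ hAg
    refine ⟨g, Chain.single
      ⟨inducedFunctor Cfsg.Agent.S0659.WA, ⟨Cfsg.Agent.S0659.WA, rfl, rfl⟩,
        ⟨Subgroup.mem_top _, ?_⟩⟩ hAg, fun _ _ => rfl⟩
    rw [Cfsg.Agent.S0659.inducedFunctor_WA]
    have hchar := Cfsg.Agent.S0653.result hp hc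
      (fun V _ hV => isPStableOn_of_noSL2 hp hfree' V hV) T'
    haveI : (centerThompsonAOf (T' : Subgroup X')).Normal := Subgroup.normal_of_characteristic _
    rw [Subgroup.normalizer_eq_top (centerThompsonAOf (T' : Subgroup X'))]
    exact Subgroup.mem_top _
  exact sec_master h𝓦 hloc' _ X rfl (Sec.refl X)

/-- **Local master theorem**: `Z(J)` controls strong fusion under the local hypothesis. -/
theorem loc_master {p : ℕ} [Fact p.Prime] (hp : p ≠ 2) :
    ∀ (n : ℕ) (X : Type u) [Group X] [Finite X] (P : Sylow p X), Nat.card X = n →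
      LH p (P : Subgroup X) → CtlAt (indFam famA.{u} X) (P : Subgroup X) := by
  intro n
  induction n using Nat.strong_induction_on with
  | _ n ih =>
  intro X _ _ P hn hLH
  have h𝓦 := famA_char.{u} p
  have h𝓦X := indFam_conj h𝓦 X
  -- control in proper subgroups with a compatible Sylow subgroup
  have hfc : ∀ (H : Subgroup X) (P' : Sylow p ↥H), H ≠ ⊤ →
      (P' : Subgroup ↥H).map H.subtype ≤ (P : Subgroup X) →
      (P : Subgroup X) ⊓ centralizer ((P : Subgroup X) : Set X) ≤
        (P' : Subgroup ↥H).map H.subtype →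
      FamilyControlsStrongFusionIn p (indFam famA.{u} X) H := by
    intro H P' hH hle hZ
    apply fcsf_subgroup h𝓦 H
    apply fcsf_of_ctlAt P'.isPGroup' P'.not_dvd_index
    exact ih (Nat.card H) (hn ▸ card_subgroup_lt H hH) ↥H P' rfl (hLH.subgroup H _ hle hZ)
  have hsub : SubGood P (indFam famA.{u} X) := by
    intro H hH hPH A g hg hA hAg
    have hmap : ((P.subtype hPH : Sylow p ↥H) : Subgroup ↥H).map H.subtype = (P : Subgroup X) := by
      rw [Sylow.coe_subtype, Subgroup.subgroupOf_map_subtype, inf_eq_left.mpr hPH]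
    have h1 := hfc H (P.subtype hPH) hH (by rw [hmap]) (by rw [hmap]; exact inf_le_left)
    exact goodF_of_fcsf_in h𝓦X h1 hPH P.isPGroup' (sylow_not_dvd_relIndex P hPH) hg hA hAg
  -- normal `p`-subgroups lie in `Q`
  have hQmax : ∀ V : Subgroup X, V ≤ (P : Subgroup X) → normalizer (V : Set X) = ⊤ →
      V ≤ pCore p X := by
    intro V hVP hV
    haveI : V.Normal := Subgroup.normalizer_eq_top_iff.mp hV
    exact Cfsg.Agent.Lib.Helper55.le_pCore p V (P.isPGroup'.to_le hVP)
  -- Case `O_p = 1`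
  by_cases h2 : pCore p X = ⊥
  · intro A g hA hAg
    apply Cfsg.Agent.S1959.main P (indFam famA.{u} X) h𝓦X ?_ _ A g hA hAg rfl
    intro T hTP hTne hFN
    obtain ⟨N, hN⟩ : ∃ N : Subgroup X, N = normalizer (T : Set X) := ⟨_, rfl⟩
    have hNne : N ≠ ⊤ := by
      intro htop
      have := hQmax T hTP (hN ▸ htop)
      rw [h2] at this
      exact hTne (eq_bot_iff.mpr this)
    have hFN' : ¬ p ∣ (((P : Subgroup X) ⊓ N).subgroupOf N).index := by rw [hN]; exact hFN
    have hP'p : IsPGroup p (((P : Subgroup X) ⊓ N).subgroupOf N) :=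
      (P.isPGroup'.to_le inf_le_left).comap_subtype
    obtain ⟨P', hP'⟩ : ∃ P' : Sylow p ↥N, P' = hP'p.toSylow hFN' := ⟨_, rfl⟩
    have hmap : (P' : Subgroup ↥N).map N.subtype = (P : Subgroup X) ⊓ N := by
      rw [hP', IsPGroup.toSylow_coe, Subgroup.subgroupOf_map_subtype, inf_assoc, inf_idem]
    rw [← hN]
    apply hfc N P' hNne
    · rw [hmap]; exact inf_le_left
    · rw [hmap]
      intro z hz
      refine ⟨hz.1, ?_⟩
      rw [hN]
      apply Subgroup.centralizer_le_normalizer (T : Set X)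
      exact Subgroup.centralizer_le hTP hz.2
  -- now `Q ≠ 1`
  obtain ⟨Q, hQ⟩ : ∃ Q : Subgroup X, Q = pCore p X := ⟨_, rfl⟩
  haveI hQn : Q.Normal := by rw [hQ]; exact Cfsg.Agent.Lib.Helper55.pCore_normal' p
  have hQP : Q ≤ (P : Subgroup X) := by rw [hQ]; exact Cfsg.Agent.Lib.Helper11.pCore_le_sylow P
  rw [← hQ] at h2 hQmax
  obtain ⟨C, hC⟩ : ∃ C : Subgroup X, C = centralizer (Q : Set X) := ⟨_, rfl⟩
  haveI hCn : C.Normal := by rw [hC]; infer_instance
  by_cases hPC : (P : Subgroup X) ⊓ C ≤ Q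
  · -- `X` does not involve `SL₂(p)`
    have hZQ : (P : Subgroup X) ⊓ centralizer ((P : Subgroup X) : Set X) ≤ Q := by
      intro z hz
      apply hPC
      refine ⟨hz.1, ?_⟩
      rw [hC]
      exact Subgroup.centralizer_le hQP hz.2
    have h1 := hLH Q hZQ hQP
    have hXfree : NoSL2 p X := by
      intro hinv
      apply h1
      have htop : normalizer (Q : Set X) = ⊤ := Subgroup.normalizer_eq_top_iff.mpr hQn
      let ι : X →* ↥(normalizer (Q : Set X)) :=
        (MonoidHom.id X).codRestrict _ (fun x => by rw [htop]; exact Subgroup.mem_top _)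
      have hι : Function.Injective ι := by
        intro x y hxy
        exact congrArg Subtype.val hxy
      exact Cfsg.Agent.Lib.Helper51.involves_of_injective ι hι hinv
    exact ctlAt_of_fcsf h𝓦X (ctl_of_noSL2 hp hXfree) P.isPGroup' P.not_dvd_index
  have hnn : normalizer ((((P : Subgroup X) ⊓ C : Subgroup X)) : Set X) ≠ ⊤ :=
    fun htop => hPC (hQmax _ inf_le_left htop)
  -- Case 4
  by_cases h4 : (P : Subgroup X) ⊔ C = ⊤
  swap
  · exact ctlAt_case4 hsub C h4 hnn
  -- Case 5
  have hPQ : ¬ (P : Subgroup X) ≤ Q := fun h => hPC (inf_le_left.trans h)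
  have hPne : (P : Subgroup X) ≠ ⊤ := by
    intro htop
    apply hPQ
    apply hQmax _ le_rfl
    rw [htop]
    exact Subgroup.normalizer_eq_top_iff.mpr inferInstance
  obtain ⟨π, hπ⟩ : ∃ π : X →* X ⧸ Q, π = QuotientGroup.mk' Q := ⟨_, rfl⟩
  have hπs : Function.Surjective π := by rw [hπ]; exact QuotientGroup.mk'_surjective Q
  have hker : π.ker = Q := by rw [hπ]; exact QuotientGroup.ker_mk' Q
  have hq : CtlAt (indFam famA.{u} (X ⧸ Q)) ((P : Subgroup X).map (QuotientGroup.mk' Q)) := by
    have h1 := ih (Nat.card (X ⧸ Q)) (hn ▸ card_quotient_lt Q h2) (X ⧸ Q)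
      (P.mapSurjective (QuotientGroup.mk'_surjective Q)) rfl
      (by rw [Sylow.coe_mapSurjective]; exact hLH.quotient Q hQP)
    rwa [Sylow.coe_mapSurjective] at h1
  rw [← hπ] at hq
  apply ctlAt_case5 hsub Q hQP hPne
  · -- `p'`-elements centralize `Q`
    intro b m hm hbm
    have hb : b ∈ (P : Subgroup X) ⊔ C := by rw [h4]; exact Subgroup.mem_top _
    obtain ⟨t, ht, c, hc, rfl⟩ := Subgroup.mem_sup_of_normal_right.mp hb
    obtain ⟨k, hk⟩ := P.isPGroup' ⟨t, ht⟩
    have htk : t ^ p ^ k = 1 := by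
      have := congrArg Subtype.val hk
      simpa using this
    have h5 : (t * c) ^ p ^ k ∈ C := by
      rw [← QuotientGroup.eq_one_iff, QuotientGroup.mk_pow, QuotientGroup.mk_mul,
        (QuotientGroup.eq_one_iff c).mpr hc, mul_one, ← QuotientGroup.mk_pow, htk]
      rfl
    have h6 : (p ^ k).Coprime (orderOf (t * c)) := by
      apply Nat.Coprime.pow_left
      exact (Nat.Coprime.coprime_dvd_left (orderOf_dvd_of_pow_eq_one hbm) hm).symm
    obtain ⟨j, hj⟩ := exists_pow_eq_self_of_coprime h6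
    rw [← hC, ← hj]
    exact Subgroup.pow_mem _ h5 _
  · intro U hUP hQU x hx
    have hA' : π '' (U : Set X) ⊆ ((P : Subgroup X).map π : Subgroup (X ⧸ Q)) := by
      rintro _ ⟨a, ha, rfl⟩
      exact ⟨a, hUP ha, rfl⟩
    have hrcU : rc x (U : Set X) = U := by
      rw [rc_coe, cj_eq_self_iff.mpr (inv_mem hx)]
    have hAg' : rc (π x) (π '' (U : Set X)) ⊆ ((P : Subgroup X).map π : Subgroup (X ⧸ Q)) := by
      rw [← image_rc, hrcU]; exact hA'
    obtain ⟨g'', hch, hag⟩ := hq (π '' (U : Set X)) (π x) hA' hAg'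
    obtain ⟨g', hfg', hgood, -⟩ := good_lift_pcore h𝓦 π hπs P (by rw [hker]; exact hQP)
      (by rw [hker]; exact hPQ) (by
        intro V hV hVP htop
        rw [hker] at hV
        exact (not_le_of_gt hV) (hQmax V hVP htop)) hsub _ _ hch (U : Set X) hUP rfl
    refine ⟨g', hgood, ?_⟩
    intro u hu
    rw [← hker, MonoidHom.mem_ker]
    have := hag (π u) ⟨u, hu, rfl⟩
    simp only [map_mul, map_inv, hfg']
    rw [this]
    group

end Cfsg.Agent.Lib.Helper11.LocFusion
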